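import Mathlib

/-!
# Primitive groups with primitive suborbits (extremely primitive groups)

Elementary facts about point stabilizers of primitive groups and Manning's theorem: if every point
stabilizer is primitive on each of its orbits, then it is faithful on each nontrivial one.
-/

set_option autoImplicit false

open MulAction Pointwise

namespace CfsgLib.ExtPrim

variable {G : Type*} [Group G] {Ω : Type*} [MulAction G Ω]

theorem isPrim_stabilizer_coatom [IsPreprimitive G Ω] {α ω : Ω} (hω : ω ≠ α) :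
    IsCoatom (stabilizer G α) := by
  haveI : Nontrivial Ω := ⟨⟨ω, α, hω⟩⟩
  exact (isCoatom_stabilizer_iff_preprimitive (G := G) (X := Ω) α).2 inferInstance

/-- A normal subgroup fixing a point of a transitive faithful action is trivial. -/
theorem eq_bot_of_normal_le_stabilizer [FaithfulSMul G Ω] [IsPretransitive G Ω] {M : Subgroup G}
    [hM : M.Normal] {α : Ω} (h : M ≤ stabilizer G α) : M = ⊥ := by
  refine (Subgroup.eq_bot_iff_forall M).2 fun x hx => eq_of_smul_eq_smul (α := Ω) fun ω => ?_
  obtain ⟨g, rfl⟩ := exists_smul_eq G α ω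
  have h1 := mem_stabilizer_iff.1 (h (hM.conj_mem x hx g⁻¹))
  rw [inv_inv, mul_smul, mul_smul] at h1
  rw [one_smul]
  exact inv_smul_eq_iff.1 h1

/-- In a primitive group with nontrivial point stabilizers, distinct points have distinct
stabilizers. -/
theorem stabilizer_ne [FaithfulSMul G Ω] [IsPreprimitive G Ω] {α ω : Ω} (hω : ω ≠ α)
    (hne : stabilizer G α ≠ ⊥) : ¬ stabilizer G α ≤ stabilizer G ω := by
  intro hle
  have hc := isPrim_stabilizer_coatom (G := G) hω
  have hωtop : stabilizer G ω ≠ ⊤ := by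
    intro h
    have : (stabilizer G ω).Normal := by rw [h]; infer_instance
    have := eq_bot_of_normal_le_stabilizer (G := G) (M := stabilizer G ω) le_rfl
    rw [this] at h hle
    exact hne (le_bot_iff.1 hle)
  have heq : stabilizer G ω = stabilizer G α := (hc.le_iff.1 hle).resolve_left hωtop
  obtain ⟨g, hg⟩ := exists_smul_eq G α ω
  have hgN : g ∈ Subgroup.normalizer (stabilizer G α : Set G) := by
    have h1 := stabilizer_smul_eq_stabilizer_map_conj g α
    rw [hg, heq] at h1
    rw [Subgroup.mem_normalizer_iff]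
    intro x
    conv_rhs => rw [h1]
    constructor
    · intro hx; exact ⟨x, hx, rfl⟩
    · rintro ⟨y, hy, hyx⟩
      rwa [← (MulAut.conj g).injective hyx]
  rcases hc.le_iff.1 (Subgroup.le_normalizer (H := stabilizer G α)) with h | h
  · haveI : (stabilizer G α).Normal := Subgroup.normalizer_eq_top_iff.1 h
    exact hne (eq_bot_of_normal_le_stabilizer (G := G) le_rfl)
  · rw [h, mem_stabilizer_iff] at hgN
    exact hω (hg.symm.trans hgN)

/-- A subgroup of `stabilizer G α` normalized by it fixes pointwise, or is transitive on, each of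
its orbits on which it is primitive. -/
theorem fixed_or_orbit_eq {α : Ω} {M : Subgroup G} (hMle : M ≤ stabilizer G α)
    (hMn : stabilizer G α ≤ Subgroup.normalizer (M : Set G)) (ω : Ω)
    (hp : IsPreprimitive (stabilizer G α) (orbit (stabilizer G α) ω)) :
    (∀ m ∈ M, ∀ x ∈ orbit (stabilizer G α) ω, m • x = x) ∨
      orbit M ω = orbit (stabilizer G α) ω := by
  set H := stabilizer G α with hH
  haveI : (M.subgroupOf H).Normal := Subgroup.normal_subgroupOf_of_le_normalizer hMn
  by_cases hfix : fixedPoints (M.subgroupOf H) (orbit H ω) = Set.univ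
  · left
    intro m hm x hx
    have := (hfix ▸ Set.mem_univ _ : (⟨x, hx⟩ : orbit H ω) ∈ fixedPoints (M.subgroupOf H) (orbit H ω))
      ⟨⟨m, hMle hm⟩, hm⟩
    exact congrArg Subtype.val this
  · right
    haveI := IsQuasiPreprimitive.isPretransitive_of_normal hfix
    refine Set.Subset.antisymm ?_ fun x hx => ?_
    · rintro _ ⟨m, rfl⟩
      exact ⟨⟨m, hMle m.2⟩, rfl⟩
    · obtain ⟨m, hm⟩ := exists_smul_eq (M.subgroupOf H) (⟨ω, mem_orbit_self ω⟩ : orbit H ω) ⟨x, hx⟩
      exact ⟨⟨(m : H), m.2⟩, congrArg Subtype.val hm⟩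

/-- The elements of the stabilizer of `α` fixing each point of the orbit of `β` under it. -/
def kernel (G : Type*) [Group G] {Ω : Type*} [MulAction G Ω] (α β : Ω) : Subgroup G :=
  stabilizer G α ⊓ fixingSubgroup G (orbit (stabilizer G α) β)

theorem mem_kernel {α β : Ω} {m : G} :
    m ∈ kernel G α β ↔ m • α = α ∧ ∀ x ∈ orbit (stabilizer G α) β, m • x = x := by
  simp [kernel, mem_fixingSubgroup_iff]

theorem stabilizer_le_normalizer_kernel (α β : Ω) :
    stabilizer G α ≤ Subgroup.normalizer (kernel G α β : Set G) := by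
  have key : ∀ g ∈ stabilizer G α, ∀ m ∈ kernel G α β, g * m * g⁻¹ ∈ kernel G α β := by
    intro g hg m hm
    rw [mem_kernel] at hm ⊢
    refine ⟨?_, fun x hx => ?_⟩
    · rw [mul_smul, mul_smul, inv_smul_eq_iff.2 (mem_stabilizer_iff.1 hg).symm, hm.1]
      exact hg
    · have hx' : g⁻¹ • x ∈ orbit (stabilizer G α) β :=
        (mem_orbit_symm.1 hx |> fun h => mem_orbit_symm.1 (by
          obtain ⟨k, hk⟩ := h
          exact ⟨k * ⟨g, hg⟩, by
            show ((k : G) * g) • (g⁻¹ • x) = β
            rw [← mul_smul, mul_assoc, mul_inv_cancel, mul_one]; exact hk⟩))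
      rw [mul_smul, mul_smul, hm.2 _ hx', smul_inv_smul]
  intro g hg
  rw [Subgroup.mem_normalizer_iff]
  refine fun m => ⟨key g hg m, fun hm => ?_⟩
  have := key g⁻¹ (inv_mem hg) _ hm
  simpa [mul_assoc] using this

variable [Finite Ω] [FaithfulSMul G Ω] [IsPreprimitive G Ω]

/-- The main step in Manning's theorem. -/
theorem kernel_le_kernel {α β : Ω} (hne : stabilizer G α ≠ ⊥) (hβ : β ≠ α)
    (hep : ∀ ω : Ω, IsPreprimitive (stabilizer G α) (orbit (stabilizer G α) ω)) :
    kernel G α β ≤ kernel G β α := by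
  intro m hm
  have hmβ : m • β = β := (mem_kernel.1 hm).2 β (mem_orbit_self β)
  rw [mem_kernel]
  refine ⟨hmβ, ?_⟩
  rintro γ ⟨⟨g, hg⟩, rfl⟩
  by_contra hmove
  set H := stabilizer G α with hH
  set K := kernel G α β with hK
  have hgβ : g • β = β := hg
  have hKle : K ≤ H := inf_le_left
  have horb : orbit K (g • α) = orbit H (g • α) :=
    (fixed_or_orbit_eq hKle (stabilizer_le_normalizer_kernel α β) _ (hep _)).resolve_left
      fun h => hmove (h m hm _ (mem_orbit_self _))
  set Δ : Set Ω := orbit H β with hΔ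
  -- `g • Δ` contains `Δ`
  have hsub : ∀ x ∈ Δ, g⁻¹ • x ∈ Δ := by
    rintro _ ⟨⟨h, hh⟩, rfl⟩
    have hmem : h⁻¹ • g • α ∈ orbit H (g • α) := ⟨⟨h⁻¹, inv_mem hh⟩, rfl⟩
    rw [← horb] at hmem
    obtain ⟨⟨k, hk⟩, hk'⟩ := hmem
    change k • g • α = h⁻¹ • g • α at hk'
    have hkβ : k • β = β := (mem_kernel.1 hk).2 β (mem_orbit_self β)
    refine ⟨⟨g⁻¹ * h * k * g, ?_⟩, ?_⟩
    · rw [hH, mem_stabilizer_iff, mul_smul, mul_smul, mul_smul, hk', smul_inv_smul, inv_smul_smul]
    · show (g⁻¹ * h * k * g) • β = g⁻¹ • h • β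
      rw [mul_smul, mul_smul, mul_smul, hgβ, hkβ]
  -- the setwise stabilizer of `Δ`
  have hstab : ∀ x : G, (∀ y ∈ Δ, x • y ∈ Δ) → x ∈ stabilizer G Δ := fun x hx => by
    rw [mem_stabilizer_set' Δ.toFinite]
    exact hx
  have hgS : g ∈ stabilizer G Δ := inv_mem_iff.1 (hstab g⁻¹ hsub)
  have hHS : H ≤ stabilizer G Δ := fun x hx => hstab x fun y hy => by
    obtain ⟨k, rfl⟩ := hy
    exact ⟨⟨x, hx⟩ * k, mul_smul _ _ _⟩
  have hgH : g ∉ H := fun h => by
    rw [hH, mem_stabilizer_iff] at h
    apply hmove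
    show m • g • α = g • α
    rw [h]
    exact (mem_kernel.1 hm).1
  have htop : stabilizer G Δ = ⊤ := ((isPrim_stabilizer_coatom hβ).le_iff.1 hHS).resolve_right
    fun h => hgH (by rw [hH, ← h]; exact hgS)
  obtain ⟨x, hx⟩ := exists_smul_eq G β α
  have hαΔ : α ∈ Δ := by
    have := (mem_stabilizer_set.1 (htop ▸ Subgroup.mem_top x : x ∈ stabilizer G Δ) β).2
      (mem_orbit_self β)
    rwa [hx] at this
  obtain ⟨⟨h, hh⟩, hh'⟩ := hαΔ
  have hh2 : h • β = α := hh'
  exact hβ (smul_left_cancel h (hh2.trans (mem_stabilizer_iff.1 hh).symm))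

/-- **Manning's theorem**: in an extremely primitive group, a point stabilizer acts faithfully on
each of its orbits other than the fixed point. -/
theorem kernel_eq_bot (hne : ∀ α : Ω, stabilizer G α ≠ ⊥)
    (hep : ∀ α ω : Ω, IsPreprimitive (stabilizer G α) (orbit (stabilizer G α) ω))
    {α β : Ω} (hβ : β ≠ α) : kernel G α β = ⊥ := by
  have heq : kernel G α β = kernel G β α :=
    le_antisymm (kernel_le_kernel (hne α) hβ (hep α)) (kernel_le_kernel (hne β) hβ.symm (hep β))
  set K := kernel G α β with hK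
  have htop : Subgroup.normalizer (K : Set G) = ⊤ := by
    refine top_le_iff.1 ?_
    have h1 : stabilizer G α ≤ Subgroup.normalizer (K : Set G) := stabilizer_le_normalizer_kernel α β
    have h2 : stabilizer G β ≤ Subgroup.normalizer (K : Set G) := by
      rw [heq]; exact stabilizer_le_normalizer_kernel β α
    rcases (isPrim_stabilizer_coatom (G := G) hβ).le_iff.1 h1 with h | h
    · exact h.ge
    · rw [h] at h2
      exact absurd h2 (stabilizer_ne hβ.symm (hne β))
  haveI : K.Normal := Subgroup.normalizer_eq_top_iff.1 htop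
  exact eq_bot_of_normal_le_stabilizer (G := G) (α := α) inf_le_left

/-- A nontrivial normal subgroup of a point stabilizer of an extremely primitive group has the same
orbits as the stabilizer. -/
theorem orbit_eq (hne : ∀ α : Ω, stabilizer G α ≠ ⊥)
    (hep : ∀ α ω : Ω, IsPreprimitive (stabilizer G α) (orbit (stabilizer G α) ω))
    {α : Ω} {M : Subgroup G} (hM : M ≠ ⊥) (hMle : M ≤ stabilizer G α)
    (hMn : stabilizer G α ≤ Subgroup.normalizer (M : Set G)) (ω : Ω) :
    orbit M ω = orbit (stabilizer G α) ω := by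
  by_cases hω : ω = α
  · subst hω
    ext x
    constructor
    · rintro ⟨m, rfl⟩
      exact ⟨⟨m, hMle m.2⟩, rfl⟩
    · rintro ⟨h, rfl⟩
      exact ⟨1, (one_smul (↥M) ω).trans (mem_stabilizer_iff.1 h.2).symm⟩
  · refine (fixed_or_orbit_eq hMle hMn ω (hep α ω)).resolve_left fun h => hM ?_
    rw [← le_bot_iff, ← kernel_eq_bot hne hep hω]
    exact fun m hm => mem_kernel.2 ⟨hMle hm, h m hm⟩

end CfsgLib.ExtPrim
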