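import Mathlib
import Cfsg.Agent.ExtPrim.Basic

/-!
# Abelian normal subgroups of point stabilisers of extremely primitive groups

A nontrivial abelian normal subgroup of a point stabiliser is regular on each nontrivial suborbit,
and is its own centraliser in the stabiliser.
-/

set_option autoImplicit false

open MulAction

namespace CfsgLib.ExtPrim

variable {G : Type*} [Group G] {Ω : Type*} [MulAction G Ω] [FaithfulSMul G Ω] [IsPreprimitive G Ω]
  [Finite Ω] {α : Ω}

theorem exists_ne (hne : stabilizer G α ≠ ⊥) : ∃ ω : Ω, ω ≠ α := by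
  by_contra h
  push Not at h
  refine hne ((Subgroup.eq_bot_iff_forall _).2 fun g _ => eq_of_smul_eq_smul (α := Ω) fun ω => ?_)
  rw [h (g • ω), h ((1 : G) • ω)]

variable (hne : ∀ α : Ω, stabilizer G α ≠ ⊥)
  (hep : ∀ α ω : Ω, IsPreprimitive (stabilizer G α) (orbit (stabilizer G α) ω))
  {M : Subgroup G} (hM : M ≠ ⊥) (hMle : M ≤ stabilizer G α)
  (hMn : stabilizer G α ≤ Subgroup.normalizer (M : Set G))

include hne hep hM hMle hMn

/-- An element of the stabiliser commuting with `M` and fixing a second point is trivial. -/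
theorem eq_one_of_commute_of_fix {h : G} (hh : h ∈ stabilizer G α) (hc : ∀ m ∈ M, Commute h m)
    {ω : Ω} (hω : ω ≠ α) (hfix : h • ω = ω) : h = 1 := by
  have hmem : h ∈ kernel G α ω := by
    refine mem_kernel.2 ⟨hh, fun x hx => ?_⟩
    rw [← orbit_eq hne hep hM hMle hMn ω] at hx
    obtain ⟨⟨m, hm⟩, rfl⟩ := hx
    show h • m • ω = m • ω
    rw [← mul_smul, (hc m hm).eq, mul_smul, hfix]
  rw [kernel_eq_bot hne hep hω, Subgroup.mem_bot] at hmem
  exact hmem

/-- A subgroup centralised by `M` is semiregular off `α`. -/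
theorem card_orbit_eq {F : Subgroup G} (hF : F ≤ stabilizer G α)
    (hFc : ∀ f ∈ F, ∀ m ∈ M, Commute f m) {ω : Ω} (hω : ω ≠ α) :
    Nat.card (orbit F ω) = Nat.card F := by
  refine (Nat.card_congr (Equiv.ofBijective
    (fun f : F => (⟨f • ω, mem_orbit ω f⟩ : orbit F ω)) ⟨?_, ?_⟩)).symm
  · intro a b hab
    have hab' : (a : G) • ω = (b : G) • ω := congrArg Subtype.val hab
    have h1 := eq_one_of_commute_of_fix hne hep hM hMle hMn
      (F.mul_mem (F.inv_mem b.2) a.2 |> fun h => hF h)
      (fun m hm => hFc _ (F.mul_mem (F.inv_mem b.2) a.2) m hm) hω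
      (by rw [mul_smul, hab', inv_smul_smul])
    exact (Subtype.ext (inv_mul_eq_one.1 h1)).symm
  · rintro ⟨_, f, rfl⟩
    exact ⟨f, rfl⟩

/-- An element centralising an abelian `M` lies in `M`. -/
theorem mem_of_commute (hMc : IsMulCommutative M) {h : G} (hh : h ∈ stabilizer G α)
    (hc : ∀ m ∈ M, Commute h m) : h ∈ M := by
  obtain ⟨ω, hω⟩ := exists_ne (hne α)
  have hmem : h • ω ∈ orbit M ω := by
    rw [orbit_eq hne hep hM hMle hMn ω]
    exact ⟨⟨h, hh⟩, rfl⟩
  obtain ⟨⟨m, hm⟩, hmω⟩ := hmem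
  change m • ω = h • ω at hmω
  have h1 := eq_one_of_commute_of_fix hne hep hM hMle hMn
    (h := m⁻¹ * h) ((stabilizer G α).mul_mem ((stabilizer G α).inv_mem (hMle hm)) hh)
    (fun x hx => Commute.mul_left
      (show Commute m x from congrArg Subtype.val (hMc.is_comm.comm (⟨m, hm⟩ : M) ⟨x, hx⟩)).inv_left
      (hc x hx)) hω (by rw [mul_smul, ← hmω, inv_smul_smul])
  exact inv_mul_eq_one.1 h1 ▸ hm

/-- The order of an abelian `M` is the size of every nontrivial suborbit. -/
theorem card_suborbit (hMc : IsMulCommutative M) {ω : Ω} (hω : ω ≠ α) :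
    Nat.card (orbit (stabilizer G α) ω) = Nat.card M := by
  rw [← orbit_eq hne hep hM hMle hMn ω]
  exact card_orbit_eq hne hep hM hMle hMn hMle
    (fun f hf m hm => congrArg Subtype.val (hMc.is_comm.comm (⟨f, hf⟩ : M) ⟨m, hm⟩)) hω

/-- The order of `M` divides the number of points other than `α`, for abelian `M`. -/
theorem card_dvd_sub_one (hMc : IsMulCommutative M) : Nat.card M ∣ Nat.card Ω - 1 := by
  classical
  cases nonempty_fintype Ω
  let S : SubMulAction M Ω :=
    { carrier := {ω | ω ≠ α}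
      smul_mem' := fun m ω hω h => hω (smul_left_cancel (m : G)
        (h.trans (mem_stabilizer_iff.1 (hMle m.2)).symm)) }
  have hfree : ∀ x : S, Nat.card (orbit M x) = Nat.card M := by
    intro x
    have h0 := card_orbit_eq hne hep hM hMle hMn hMle
      (fun f hf m hm => congrArg Subtype.val (hMc.is_comm.comm (⟨f, hf⟩ : M) ⟨m, hm⟩)) (ω := (x : Ω)) x.2
    rw [← h0]
    refine Nat.card_congr (Equiv.ofBijective
      (fun y : orbit M x => (⟨(y.1 : Ω), by obtain ⟨m, hm⟩ := y.2; exact ⟨m, congrArg Subtype.val hm⟩⟩ : orbit M (x : Ω))) ⟨?_, ?_⟩)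
    · intro a b hab
      exact Subtype.ext (Subtype.ext (congrArg Subtype.val hab :))
    · rintro ⟨_, m, rfl⟩
      exact ⟨⟨m • x, mem_orbit x m⟩, rfl⟩
  have hS : Nat.card S = Nat.card Ω - 1 := by
    rw [Nat.card_eq_fintype_card (α := Ω)]
    show Nat.card {ω : Ω // ω ≠ α} = _
    rw [Nat.card_eq_fintype_card, Fintype.card_subtype_compl, Fintype.card_subtype_eq]
  rw [← hS, Nat.card_congr (selfEquivSigmaOrbits M S), Nat.card_sigma]
  exact Finset.dvd_sum fun q _ => (hfree _).symm.dvd

end CfsgLib.ExtPrim
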