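import Mathlib
import Cfsg.Agent.ExtPrim.Basic
import Cfsg.Agent.MinNormal.Action
import Cfsg.Agent.MinNormal.MaximalCentralizers

/-!
# An extremely primitive group is affine or almost simple

The theorem of Mann, Praeger and Seress, proved without the odd order theorem: Manning's theorem
reduces the non-affine cases to a simple factor acting regularly, which the class equation excludes.
-/

set_option autoImplicit false

open MulAction

namespace CfsgLib.ExtPrim

open CfsgLib.MinNormal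

variable {G : Type*} [Group G] {Ω : Type*} [MulAction G Ω] [FaithfulSMul G Ω] [IsPreprimitive G Ω]
  [Finite Ω]

/-- A regular non-abelian simple subgroup `T` whose inner automorphisms are induced by a normal
subgroup of the point stabiliser: impossible in an extremely primitive group. -/
theorem diag_contra [Finite G] (hne : ∀ α : Ω, stabilizer G α ≠ ⊥)
    (hep : ∀ α ω : Ω, IsPreprimitive (stabilizer G α) (orbit (stabilizer G α) ω)) {α : Ω}
    (T : Subgroup G) [IsSimpleGroup T] (hTnc : ¬ IsMulCommutative T) [IsPretransitive T Ω]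
    (hTreg : ∀ t ∈ T, t • α = α → t = 1) (M : Subgroup G) (hM : M ≤ stabilizer G α)
    (hMn : stabilizer G α ≤ Subgroup.normalizer (M : Set G))
    (h1 : ∀ m ∈ M, ∃ c ∈ T, ∀ u ∈ T, m * u * m⁻¹ = c * u * c⁻¹)
    (h2 : ∀ c ∈ T, ∃ m ∈ M, ∀ u ∈ T, m * u * m⁻¹ = c * u * c⁻¹)
    (h3 : ∀ h ∈ stabilizer G α, ∀ t ∈ T, h * t * h⁻¹ ∈ T ∨ ∀ u ∈ T, Commute (h * t * h⁻¹) u) :
    False := by
  have hcen : ∀ c ∈ T, (∀ u ∈ T, Commute c u) → c = 1 := by
    intro c hc hcom
    have hz : (⟨c, hc⟩ : T) ∈ Subgroup.center T :=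
      Subgroup.mem_center_iff.2 fun u => Subtype.ext (hcom u u.2).symm.eq
    rcases IsSimpleGroup.eq_bot_or_eq_top_of_normal (Subgroup.center T) inferInstance with e | e
    · rw [e, Subgroup.mem_bot] at hz; exact congrArg Subtype.val hz
    · exact absurd ⟨⟨fun a b => Subgroup.mem_center_iff.1 (e ▸ Subgroup.mem_top b) a⟩⟩ hTnc
  have huniq : ∀ c ∈ T, ∀ c' ∈ T, (∀ u ∈ T, c * u * c⁻¹ = c' * u * c'⁻¹) → c = c' := by
    intro c hc c' hc' h
    refine (inv_mul_eq_one.1 (hcen _ (T.mul_mem (T.inv_mem hc') hc) fun u hu => ?_)).symm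
    show c'⁻¹ * c * u = u * (c'⁻¹ * c)
    calc c'⁻¹ * c * u = c'⁻¹ * (c * u * c⁻¹) * c := by group
      _ = c'⁻¹ * (c' * u * c'⁻¹) * c := by rw [h u hu]
      _ = u * (c'⁻¹ * c) := by group
  have hex : ∀ m : M, ∃ c : T, ∀ u ∈ T, (m : G) * u * (m : G)⁻¹ = c * u * (c : G)⁻¹ := fun m => by
    obtain ⟨c, hc, h⟩ := h1 m m.2
    exact ⟨⟨c, hc⟩, h⟩
  choose π hπ using hex
  have hπmul : ∀ a b : M, π (a * b) = π a * π b := fun a b => Subtype.ext <| by
    refine huniq _ (π (a * b)).2 _ (π a * π b).2 fun u hu => ?_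
    rw [← hπ _ u hu]
    have hbu : (π b : G) * u * (π b : G)⁻¹ ∈ T := T.mul_mem (T.mul_mem (π b).2 hu) (T.inv_mem (π b).2)
    calc ((a * b : M) : G) * u * ((a * b : M) : G)⁻¹ = (a : G) * ((b : G) * u * (b : G)⁻¹) * (a : G)⁻¹ := by
          rw [Subgroup.coe_mul]; group
      _ = _ := by rw [hπ b u hu, hπ a _ hbu, Subgroup.coe_mul]; group
  let φ : M →* T := MonoidHom.mk' π hπmul
  have hφ : Function.Bijective φ := by
    constructor
    · rw [← MonoidHom.ker_eq_bot_iff, Subgroup.eq_bot_iff_forall]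
      intro m hm
      have hm1 : π m = 1 := hm
      refine Subtype.ext (eq_one_of_fix_of_commute (N := T) (fun u hu => ?_) (hM m.2))
      have := hπ m u hu
      rw [hm1, Subgroup.coe_one, inv_one, one_mul, mul_one] at this
      exact mul_inv_eq_iff_eq_mul.1 this
    · intro c
      obtain ⟨m, hm, h⟩ := h2 c c.2
      refine ⟨⟨m, hm⟩, Subtype.ext (huniq _ (π ⟨m, hm⟩).2 _ c.2 fun u hu => ?_)⟩
      rw [← hπ _ u hu]
      exact h u hu
  set H := stabilizer G α with hH
  let e : M.subgroupOf H ≃* T := (Subgroup.subgroupOfEquivOfLe hM).trans (MulEquiv.ofBijective φ hφ)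
  haveI : (M.subgroupOf H).Normal := Subgroup.normal_subgroupOf_of_le_normalizer hMn
  haveI : IsSimpleGroup (M.subgroupOf H) := e.isSimpleGroup
  have hnc : ¬ IsMulCommutative (M.subgroupOf H) := fun h => hTnc
    ⟨⟨fun a b => e.symm.injective (by rw [map_mul, map_mul, h.is_comm.comm])⟩⟩
  have reg : ∀ a ∈ T, ∀ b ∈ T, a • α = b • α → a = b := fun a ha b hb hab =>
    (inv_mul_eq_one.1 (hTreg _ (T.mul_mem (T.inv_mem hb) ha) (by rw [mul_smul, hab, inv_smul_smul]))).symm
  -- moving the base point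
  have hmove : ∀ h ∈ H, ∀ t : G, h • t • α = (h * t * h⁻¹) • α := fun h hh t => by
    rw [mul_smul, mul_smul, inv_smul_eq_iff.2 (mem_stabilizer_iff.1 hh).symm]
  refine not_all_maximal (M.subgroupOf H) hnc (fun x => stabilizer H ((e x : G) • α)) ?_ ?_ ?_
  · intro x
    ext y
    rw [Subgroup.mem_comap, mem_stabilizer_iff, Subgroup.mem_centralizer_iff]
    set m : M := Subgroup.subgroupOfEquivOfLe hM y with hm
    have hy : ((y : H) : G) = m := rfl
    have hact : (y : H) • ((e x : G) • α) = ((π m : G) * e x * (π m : G)⁻¹) • α := by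
      show ((y : H) : G) • ((e x : G) • α) = _
      rw [hmove _ (y : H).2, hy, hπ m _ (e x).2]
    change (y : H) • ((e x : G) • α) = (e x : G) • α ↔ ∀ h ∈ ({x} : Set _), h * y = y * h
    rw [hact]
    simp only [Set.mem_singleton_iff, forall_eq]
    have hey : e y = π m := rfl
    constructor
    · intro hfix
      have h' := reg _ (T.mul_mem (T.mul_mem (π m).2 (e x).2) (T.inv_mem (π m).2)) _ (e x).2 hfix
      refine e.injective (Subtype.ext ?_)
      rw [map_mul, map_mul, hey, Subgroup.coe_mul, Subgroup.coe_mul]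
      exact (mul_inv_eq_iff_eq_mul.1 h').symm
    · intro hc
      have h' : (e x : G) * π m = π m * e x := by
        have := congrArg (fun z : T => (z : G)) (congrArg e hc)
        simpa only [map_mul, Subgroup.coe_mul, hey] using this
      rw [← h', mul_inv_cancel_right]
  · intro x hx
    set pt := (e x : G) • α with hpt
    have hptne : pt ≠ α := fun h => hx (e.map_eq_one_iff.1 (Subtype.ext (hTreg _ (e x).2 h)))
    haveI : Nontrivial (orbit H pt) := by
      obtain ⟨h, hh, hmv⟩ := SetLike.not_le_iff_exists.1 (stabilizer_ne (G := G) hptne (hne α))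
      exact ⟨⟨⟨pt, mem_orbit_self pt⟩, ⟨h • pt, ⟨⟨h, hh⟩, rfl⟩⟩,
        fun he => hmv (congrArg Subtype.val he).symm⟩⟩
    haveI := hep α pt
    have hc := (isCoatom_stabilizer_iff_preprimitive (G := H) (X := orbit H pt)
      (⟨pt, mem_orbit_self pt⟩ : orbit H pt)).2 inferInstance
    have heq : stabilizer H (⟨pt, mem_orbit_self pt⟩ : orbit H pt) = stabilizer H pt := by
      ext h
      rw [mem_stabilizer_iff, mem_stabilizer_iff, Subtype.ext_iff]
      rfl
    rwa [heq] at hc
  · intro x k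
    intro h hh
    rw [mem_stabilizer_iff] at hh ⊢
    change (h : G) • ((e (x ^ k) : G) • α) = (e (x ^ k) : G) • α
    change (h : G) • ((e x : G) • α) = (e x : G) • α at hh
    rw [map_pow, Subgroup.coe_pow]
    set t := (e x : G) with ht
    have htT : t ∈ T := (e x).2
    rw [hmove _ h.2] at hh ⊢
    set u := (h : G) * t * (h : G)⁻¹ with hu
    have hcom : Commute u t := by
      rcases h3 h h.2 t htT with hT | hT
      · rw [← hu] at hT; rw [reg u hT t htT hh]
      · exact hT t htT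
    have hfix : t⁻¹ * u ∈ stabilizer G α := by
      rw [mem_stabilizer_iff, mul_smul, hh, inv_smul_smul]
    have hk := Subgroup.pow_mem _ hfix k
    rw [hcom.symm.inv_left.mul_pow, mem_stabilizer_iff, mul_smul, inv_pow, inv_smul_eq_iff] at hk
    rw [← conj_pow]
    exact hk

/-- **Mann–Praeger–Seress**: an extremely primitive group with nontrivial point stabilisers that
has a non-abelian minimal normal subgroup is almost simple. -/
theorem almost_simple_of_minNormal [Finite G] [Nonempty Ω] (hne : ∀ α : Ω, stabilizer G α ≠ ⊥)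
    (hep : ∀ α ω : Ω, IsPreprimitive (stabilizer G α) (orbit (stabilizer G α) ω))
    {N : Subgroup G} (hN : IsMinNormal N) (hnc : ¬ IsMulCommutative N) :
    ∃ T : Subgroup G, T.Normal ∧ IsSimpleGroup T ∧ ¬ IsMulCommutative T ∧
      Subgroup.centralizer (T : Set G) = ⊥ := by
  haveI := hN.normal
  haveI : IsPretransitive N Ω := isPretransitive_of_ne_bot hN.ne_bot
  obtain ⟨T, hT⟩ := exists_isFactor hN
  haveI := hT.isSimpleGroup hN
  have hTnc := hT.not_commutative hN hnc
  obtain ⟨α⟩ := ‹Nonempty Ω›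
  set H := stabilizer G α with hH
  -- factors are conjugate under the point stabiliser
  have hfac : ∀ X : Subgroup G, IsFactor N X → ∀ g : G, ∃ h ∈ H,
      X.map (MulAut.conj g).toMonoidHom = X.map (MulAut.conj h).toMonoidHom := by
    intro X hX g
    obtain ⟨⟨n, hn⟩, hnα⟩ := exists_smul_eq N α (g • α)
    change n • α = g • α at hnα
    refine ⟨n⁻¹ * g, by rw [hH, mem_stabilizer_iff, mul_smul, ← hnα, inv_smul_smul], ?_⟩
    have hV := hX.conj hN (n⁻¹ * g)
    ext y
    constructor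
    · rintro ⟨x, hx, rfl⟩
      have h' : (n⁻¹ * g) * x * (n⁻¹ * g)⁻¹ ∈ X.map (MulAut.conj (n⁻¹ * g)).toMonoidHom := ⟨x, hx, rfl⟩
      have := conj_mem_of_le_normalizer hV.normal hn h'
      simpa [mul_assoc] using this
    · intro hy
      have h' := conj_mem_of_le_normalizer hV.normal (N.inv_mem hn) hy
      obtain ⟨x, hx, hxe⟩ := h'
      refine ⟨x, hx, ?_⟩
      have hxe' : n⁻¹ * g * x * (n⁻¹ * g)⁻¹ = n⁻¹ * y * n⁻¹⁻¹ := hxe
      show g * x * g⁻¹ = y
      calc g * x * g⁻¹ = n * (n⁻¹ * g * x * (n⁻¹ * g)⁻¹) * n⁻¹ := by group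
        _ = y := by rw [hxe']; group
  have hconjT : ∀ h : G, ∀ t ∈ T, h * t * h⁻¹ ∈ T ∨ ∀ u ∈ T, Commute (h * t * h⁻¹) u := by
    intro h t ht
    by_cases hV : T.map (MulAut.conj h).toMonoidHom = T
    · exact Or.inl (by rw [← hV]; exact ⟨t, ht, rfl⟩)
    · exact Or.inr fun u hu => (hT.commute (hT.conj hN h) (Ne.symm hV) hu ⟨t, ht, rfl⟩).symm
  have hmove : ∀ h ∈ H, ∀ t : G, h • t • α = (h * t * h⁻¹) • α := fun h hh t => by
    rw [mul_smul, mul_smul, inv_smul_eq_iff.2 (mem_stabilizer_iff.1 hh).symm]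
  have hTN_of_all : (∀ g : G, T.map (MulAut.conj g).toMonoidHom = T) → T = N := fun hall => by
    conv_rhs => rw [← iSup_factor_eq hN hT]
    exact le_antisymm (fun t ht =>
      le_iSup (fun g : G => T.map (MulAut.conj g).toMonoidHom) 1 ⟨t, ht, by simp⟩)
        (iSup_le fun g => (hall g).le)
  by_cases hC : Subgroup.centralizer (N : Set G) = ⊥
  swap
  · -- two regular minimal normal subgroups
    exfalso
    set K := Subgroup.centralizer (N : Set G) with hK
    haveI : IsPretransitive K Ω := isPretransitive_of_ne_bot hC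
    have hNreg : ∀ a ∈ N, a • α = α → a = 1 := fun a ha h =>
      eq_one_of_fix_of_commute (N := K) (fun m hm => Subgroup.mem_centralizer_iff.1 hm a ha) h
    set M := (N ⊔ K) ⊓ H with hMdef
    have hMn : H ≤ Subgroup.normalizer (M : Set G) :=
      le_normalizer_of_conj_mem fun h hh m hm =>
        ⟨Subgroup.Normal.conj_mem inferInstance m hm.1 h, H.mul_mem (H.mul_mem hh hm.2) (H.inv_mem hh)⟩
    have hinner : ∀ c ∈ N, ∃ m ∈ M, ∀ u ∈ N, m * u * m⁻¹ = c * u * c⁻¹ := by
      intro c hc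
      obtain ⟨⟨k, hk⟩, hkα⟩ := exists_smul_eq K α (c⁻¹ • α)
      change k • α = c⁻¹ • α at hkα
      refine ⟨c * k, ⟨Subgroup.mul_mem_sup hc hk, ?_⟩, fun u hu => ?_⟩
      · show (c * k) • α = α
        rw [mul_smul, hkα, smul_inv_smul]
      · have := Subgroup.mem_centralizer_iff.1 hk u hu
        rw [mul_assoc c k u, ← this]; group
    have hdec : ∀ m ∈ N ⊔ K, ∃ c ∈ N, ∀ u ∈ N, m * u * m⁻¹ = c * u * c⁻¹ := by
      intro m hm
      rw [← SetLike.mem_coe, Subgroup.normal_mul] at hm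
      obtain ⟨c, hc, k, hk, rfl⟩ := hm
      refine ⟨c, hc, fun u hu => ?_⟩
      have := Subgroup.mem_centralizer_iff.1 hk u hu
      rw [mul_assoc c k u, ← this]; group
    have hTN : T = N := by
      refine hTN_of_all fun g => ?_
      by_contra hg
      obtain ⟨h, hh, hhg⟩ := hfac T hT g
      rw [hhg] at hg
      obtain ⟨t, ht, ht1⟩ := T.bot_or_exists_ne_one.resolve_left hT.ne_bot
      have hMne : M ≠ ⊥ := by
        intro e
        obtain ⟨m, hm, hmu⟩ := hinner t (hT.le ht)
        rw [e, Subgroup.mem_bot] at hm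
        refine ht1 (hT.eq_one_of_commute hN hnc ht fun u hu => ?_)
        have := hmu u (hT.le hu)
        rw [hm, inv_one, one_mul, mul_one] at this
        exact (mul_inv_eq_iff_eq_mul.1 this.symm)
      have hmem : (h * t * h⁻¹) • α ∈ orbit M (t • α) := by
        rw [orbit_eq hne hep hMne inf_le_right hMn, ← hmove h hh]
        exact ⟨⟨h, hh⟩, rfl⟩
      obtain ⟨⟨m, hm⟩, hmα⟩ := hmem
      change m • t • α = (h * t * h⁻¹) • α at hmα
      rw [hmove m hm.2] at hmα
      obtain ⟨c, hc, hcu⟩ := hdec m hm.1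
      rw [hcu t (hT.le ht)] at hmα
      have hin : c * t * c⁻¹ ∈ T := conj_mem_of_le_normalizer hT.normal hc ht
      have hout : h * t * h⁻¹ ∈ T.map (MulAut.conj h).toMonoidHom := ⟨t, ht, rfl⟩
      have hN1 : h * t * h⁻¹ ∈ N := (hT.conj hN h).le hout
      have he : c * t * c⁻¹ = h * t * h⁻¹ := (inv_mul_eq_one.1 (hNreg _
        (N.mul_mem (N.inv_mem hN1) (hT.le hin)) (by rw [mul_smul, hmα, inv_smul_smul]))).symm
      have hbot : h * t * h⁻¹ ∈ (⊥ : Subgroup G) :=
        hT.inf_eq_bot (hT.conj hN h) (Ne.symm hg) ▸ ⟨he ▸ hin, hout⟩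
      exact ht1 (conj_eq_one_iff.1 (Subgroup.mem_bot.1 hbot))
    subst hTN
    exact diag_contra hne hep T hTnc hNreg M inf_le_right hMn (fun m hm => hdec m hm.1) hinner
      fun h _ t ht => hconjT h t ht
  by_cases hall : ∀ g : G, T.map (MulAut.conj g).toMonoidHom = T
  · have := hTN_of_all hall
    subst this
    exact ⟨T, hN.normal, hT.isSimpleGroup hN, hnc, hC⟩
  exfalso
  push Not at hall
  obtain ⟨g₁, hg₁⟩ := hall
  set M := N ⊓ H with hMdef
  have hMn : H ≤ Subgroup.normalizer (M : Set G) :=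
    le_normalizer_of_conj_mem fun h hh m hm =>
      ⟨Subgroup.Normal.conj_mem inferInstance m hm.1 h, H.mul_mem (H.mul_mem hh hm.2) (H.inv_mem hh)⟩
  by_cases hA : ∃ a ∈ T, a ≠ 1 ∧ ∃ ω : Ω, a • ω = ω
  · obtain ⟨a₀, ha₀, ha₀1, ω₀, hω₀⟩ := hA
    obtain ⟨a, ha, ha1, haα⟩ := exists_fixer hT ha₀ ha₀1 hω₀ α
    have hMne : M ≠ ⊥ := fun e => ha1 (Subgroup.mem_bot.1 (e ▸ ⟨hT.le ha, haα⟩))
    obtain ⟨t, ht, hder⟩ := exists_derangement_factor (Ω := Ω) hN hT
    obtain ⟨h, hh, hhg⟩ := hfac T hT g₁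
    rw [hhg] at hg₁
    set U := T.map (MulAut.conj h).toMonoidHom
    have hmem : (h * t * h⁻¹) • α ∈ orbit M (t • α) := by
      rw [orbit_eq hne hep hMne inf_le_right hMn, ← hmove h hh]
      exact ⟨⟨h, hh⟩, rfl⟩
    obtain ⟨⟨m, hm⟩, hmα⟩ := hmem
    change m • t • α = (h * t * h⁻¹) • α at hmα
    rw [hmove m hm.2] at hmα
    have hu : h * t * h⁻¹ ∈ U := ⟨t, ht, rfl⟩
    have ht' : m * t * m⁻¹ ∈ T := conj_mem_of_le_normalizer hT.normal hm.1 ht
    have hcom : ∀ w ∈ T, Commute (h * t * h⁻¹)⁻¹ w := fun w hw =>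
      (hT.commute (hT.conj hN h) (Ne.symm hg₁) hw hu).symm.inv_left
    have hfix := fix_of_fix_mul hN hT ht' hcom (N.inv_mem ((hT.conj hN h).le hu)) (ω := α) (by
      rw [(hcom _ ht').symm.eq, mul_smul, hmα, inv_smul_smul]) ha ha1 haα
    rw [mul_smul, mul_smul, smul_eq_iff_eq_inv_smul] at hfix
    exact hder _ hfix
  push Not at hA
  have hsemi : ∀ g : G, ∀ x ∈ T.map (MulAut.conj g).toMonoidHom, ∀ ω : Ω, x • ω = ω → x = 1 := by
    rintro g _ ⟨t, ht, rfl⟩ ω hω
    by_contra hne1
    refine hA t ht (fun e => hne1 (by rw [e]; simp)) (g⁻¹ • ω) ?_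
    have hω' : (g * t * g⁻¹) • ω = ω := hω
    rw [mul_smul, mul_smul, smul_eq_iff_eq_inv_smul] at hω'
    exact hω'
  by_cases hMne : M = ⊥
  · -- `N` is regular
    classical
    cases nonempty_fintype G
    have hNreg : ∀ a ∈ N, a • α = α → a = 1 := fun a ha h => Subgroup.mem_bot.1 (hMne ▸ ⟨ha, h⟩)
    have hnormT : ∀ h ∈ H, ∀ t ∈ T, t ≠ 1 → h * t * h⁻¹ ∈ T → T.map (MulAut.conj h).toMonoidHom = T := by
      intro h _ t ht ht1 hmem
      by_contra hV
      have hbot : h * t * h⁻¹ ∈ (⊥ : Subgroup G) :=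
        hT.inf_eq_bot (hT.conj hN h) (Ne.symm hV) ▸ ⟨hmem, ⟨t, ht, rfl⟩⟩
      exact ht1 (conj_eq_one_iff.1 (Subgroup.mem_bot.1 hbot))
    let Kn : Subgroup H :=
      { carrier := {h : H | T.map (MulAut.conj (h : G)).toMonoidHom = T}
        one_mem' := by
          show T.map (MulAut.conj ((1 : H) : G)).toMonoidHom = T
          ext x; simp
        mul_mem' := by
          intro a b ha hb
          show T.map (MulAut.conj ((a * b : H) : G)).toMonoidHom = T
          have : T.map (MulAut.conj ((a * b : H) : G)).toMonoidHom =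
              (T.map (MulAut.conj (b : G)).toMonoidHom).map (MulAut.conj (a : G)).toMonoidHom := by
            rw [Subgroup.map_map, Subgroup.coe_mul, map_mul]; rfl
          rw [this, hb, ha]
        inv_mem' := by
          intro a ha
          show T.map (MulAut.conj ((a⁻¹ : H) : G)).toMonoidHom = T
          conv_lhs => rw [← ha]
          rw [Subgroup.map_map]
          ext x
          simp [mul_assoc] }
    have hcent : ∀ t ∈ T, t ≠ 1 → ∀ k : H, k ∈ Kn → (k : G) * t * (k : G)⁻¹ = t := by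
      intro t ht ht1 k hk
      set pt := t • α with hpt
      have hptne : pt ≠ α := fun h => ht1 (hNreg t (hT.le ht) h)
      haveI : Nontrivial (orbit H pt) := by
        obtain ⟨h, hh, hmv⟩ := SetLike.not_le_iff_exists.1 (stabilizer_ne (G := G) hptne (hne α))
        exact ⟨⟨⟨pt, mem_orbit_self pt⟩, ⟨h • pt, ⟨⟨h, hh⟩, rfl⟩⟩,
          fun he => hmv (congrArg Subtype.val he).symm⟩⟩
      haveI := hep α pt
      have hc := (isCoatom_stabilizer_iff_preprimitive (G := H) (X := orbit H pt)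
        (⟨pt, mem_orbit_self pt⟩ : orbit H pt)).2 inferInstance
      have hiff : ∀ h : H, h ∈ stabilizer H (⟨pt, mem_orbit_self pt⟩ : orbit H pt) ↔
          (h : G) * t * (h : G)⁻¹ = t := fun h => by
        rw [mem_stabilizer_iff, Subtype.ext_iff]
        show (h : G) • t • α = t • α ↔ _
        rw [hmove _ h.2]
        refine ⟨fun e => ?_, fun e => by rw [e]⟩
        exact (inv_mul_eq_one.1 (hNreg _ (N.mul_mem (N.inv_mem (hT.le ht))
          (Subgroup.Normal.conj_mem inferInstance t (hT.le ht) _))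
          (by rw [mul_smul, e, inv_smul_smul]))).symm
      have hle : stabilizer H (⟨pt, mem_orbit_self pt⟩ : orbit H pt) ≤ Kn := fun h hh =>
        hnormT h h.2 t ht ht1 (by rw [(hiff h).1 hh]; exact ht)
      rcases hc.le_iff.1 hle with h | h
      · exfalso
        obtain ⟨h₁, hh₁, hh₁g⟩ := hfac T hT g₁
        rw [hh₁g] at hg₁
        have hmem : (⟨h₁, hh₁⟩ : H) ∈ Kn := h ▸ Subgroup.mem_top _
        exact hg₁ hmem
      · exact (hiff k).1 (h ▸ hk)
    obtain ⟨t, ht, ht1⟩ := T.bot_or_exists_ne_one.resolve_left hT.ne_bot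
    set O : Finset G := Finset.univ.image (fun h : H => (h : G) * t * (h : G)⁻¹) with hO
    have hOmem : ∀ x ∈ O, ∃ h : H, x = (h : G) * t * (h : G)⁻¹ := fun x hx => by
      obtain ⟨h, -, rfl⟩ := Finset.mem_image.1 hx; exact ⟨h, rfl⟩
    have hOmem' : ∀ h : H, (h : G) * t * (h : G)⁻¹ ∈ O := fun h =>
      Finset.mem_image.2 ⟨h, Finset.mem_univ h, rfl⟩
    have hOeq : ∀ x ∈ O, ∀ h : H, x ∈ T.map (MulAut.conj (h : G)).toMonoidHom →
        x = (h : G) * t * (h : G)⁻¹ := by
      intro x hx h hxV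
      obtain ⟨k, rfl⟩ := hOmem x hx
      have hVW : T.map (MulAut.conj (k : G)).toMonoidHom = T.map (MulAut.conj (h : G)).toMonoidHom := by
        by_contra hne'
        have hbot : (k : G) * t * (k : G)⁻¹ ∈ (⊥ : Subgroup G) :=
          (hT.conj hN k).inf_eq_bot (hT.conj hN h) hne' ▸ ⟨⟨t, ht, rfl⟩, hxV⟩
        exact ht1 (conj_eq_one_iff.1 (Subgroup.mem_bot.1 hbot))
      have hk : h⁻¹ * k ∈ Kn := by
        show T.map (MulAut.conj ((h⁻¹ * k : H) : G)).toMonoidHom = T
        have : T.map (MulAut.conj ((h⁻¹ * k : H) : G)).toMonoidHom =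
            (T.map (MulAut.conj (k : G)).toMonoidHom).map (MulAut.conj ((h⁻¹ : H) : G)).toMonoidHom := by
          rw [Subgroup.map_map, Subgroup.coe_mul, map_mul]; rfl
        rw [this, hVW, Subgroup.map_map]
        ext x; simp [mul_assoc]
      have := hcent t ht ht1 _ hk
      rw [Subgroup.coe_mul, Subgroup.coe_inv] at this
      calc (k : G) * t * (k : G)⁻¹
          = (h : G) * ((h : G)⁻¹ * k * t * ((h : G)⁻¹ * k)⁻¹) * (h : G)⁻¹ := by group
        _ = _ := by rw [this]
    have hcomm : ∀ x ∈ O.val, ∀ y ∈ O.val, x ≠ y → Commute x y := by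
      intro x hx y hy hxy
      obtain ⟨k, rfl⟩ := hOmem x hx
      obtain ⟨l, rfl⟩ := hOmem y hy
      by_cases hV : T.map (MulAut.conj (k : G)).toMonoidHom = T.map (MulAut.conj (l : G)).toMonoidHom
      · exact absurd (hOeq _ hx l (hV ▸ ⟨t, ht, rfl⟩)) hxy
      · exact (hT.conj hN k).commute (hT.conj hN l) hV ⟨t, ht, rfl⟩ ⟨t, ht, rfl⟩
    have hpw : {x | x ∈ O.val}.Pairwise Commute := fun x hx y hy hxy => hcomm x hx y hy hxy
    set n := O.val.noncommProd hpw with hn
    have hnN : n ∈ N := Subgroup.multiset_noncommProd_mem _ _ hpw fun x hx => by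
      obtain ⟨k, rfl⟩ := hOmem x hx
      exact (hT.conj hN k).le ⟨t, ht, rfl⟩
    have hinv : ∀ h : H, (h : G) * n * (h : G)⁻¹ = n := by
      intro h
      show (MulAut.conj (h : G)).toMonoidHom n = n
      have himg : O.val.map (MulAut.conj (h : G)).toMonoidHom = O.val := by
        rw [← Finset.image_val_of_injOn (f := (MulAut.conj (h : G)).toMonoidHom)
          (MulAut.conj (h : G)).injective.injOn]
        congr 1
        refine Finset.eq_of_subset_of_card_le (fun y hy => ?_) ?_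
        · obtain ⟨x, hx, rfl⟩ := Finset.mem_image.1 hy
          obtain ⟨k, rfl⟩ := hOmem x hx
          have := hOmem' (h * k)
          simpa [mul_assoc] using this
        · exact (Finset.card_image_of_injective _ (MulAut.conj (h : G)).injective).ge
      rw [hn, Multiset.map_noncommProd]
      congr 1
    have hfixall : H ≤ stabilizer G (n • α) := fun h hh => by
      rw [mem_stabilizer_iff, hmove h hh, hinv ⟨h, hh⟩]
    have hn1 : n ≠ 1 := by
      intro e
      have htO : t ∈ O := by simpa using hOmem' 1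
      have h5 := Multiset.mul_noncommProd_erase O.val htO hpw
      rw [← hn, e] at h5
      refine ht1 (hT.eq_one_of_commute hN hnc ht fun u hu => ?_)
      rw [eq_inv_of_mul_eq_one_left h5]
      refine Commute.inv_left ?_
      refine (Multiset.noncommProd_commute _ _ _ fun x hx => ?_).symm
      have hx' := O.nodup.mem_erase_iff.1 hx
      obtain ⟨k, rfl⟩ := hOmem x hx'.2
      by_cases hV : T.map (MulAut.conj (k : G)).toMonoidHom = T
      · have hin : (k : G) * t * (k : G)⁻¹ ∈ T.map (MulAut.conj ((1 : H) : G)).toMonoidHom := by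
          have h6 : (k : G) * t * (k : G)⁻¹ ∈ T := hV ▸ ⟨t, ht, rfl⟩
          exact ⟨_, h6, by simp⟩
        have h7 := hOeq _ hx'.2 1 hin
        exact absurd (by simpa using h7) hx'.1
      · exact hT.commute (hT.conj hN k) (Ne.symm hV) hu ⟨t, ht, rfl⟩
    refine stabilizer_ne (G := G) ?_ (hne α) hfixall
    exact fun e => hn1 (hNreg n hnN e)
  · -- diagonal action
    have key : ∀ g g' : G, T.map (MulAut.conj g).toMonoidHom ≠ T.map (MulAut.conj g').toMonoidHom →
        ∀ x ∈ T.map (MulAut.conj g).toMonoidHom, ∃ y ∈ T.map (MulAut.conj g').toMonoidHom,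
          y * x ∈ M := by
      intro g g' hXY x hx
      set X := T.map (MulAut.conj g).toMonoidHom with hXdef
      have hX : IsFactor N X := hT.conj hN g
      have hXg : X.map (MulAut.conj (g' * g⁻¹)).toMonoidHom = T.map (MulAut.conj g').toMonoidHom := by
        rw [hXdef, Subgroup.map_map]
        congr 1
        ext z
        simp [mul_assoc]
      obtain ⟨h, hh, hhY⟩ := hfac X hX (g' * g⁻¹)
      rw [hXg] at hhY
      set Y := T.map (MulAut.conj g').toMonoidHom
      have hY : IsFactor N Y := hT.conj hN g'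
      have hmem : (h * x * h⁻¹) • α ∈ orbit M (x • α) := by
        rw [orbit_eq hne hep hMne inf_le_right hMn, ← hmove h hh]
        exact ⟨⟨h, hh⟩, rfl⟩
      obtain ⟨⟨m, hm⟩, hmα⟩ := hmem
      change m • x • α = (h * x * h⁻¹) • α at hmα
      rw [hmove m hm.2] at hmα
      have hu : h * x * h⁻¹ ∈ Y := hhY ▸ ⟨x, hx, rfl⟩
      have h0 : (h * x * h⁻¹)⁻¹ * (m * x * m⁻¹) ∈ M := by
        refine ⟨N.mul_mem (N.inv_mem (hY.le hu)) (Subgroup.Normal.conj_mem inferInstance x (hX.le hx) m), ?_⟩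
        show ((h * x * h⁻¹)⁻¹ * (m * x * m⁻¹)) • α = α
        rw [mul_smul, hmα, inv_smul_smul]
      refine ⟨m⁻¹ * (h * x * h⁻¹)⁻¹ * m, ?_, ?_⟩
      · have := conj_mem_of_le_normalizer hY.normal (N.inv_mem hm.1) (Y.inv_mem hu)
        simpa only [inv_inv] using this
      · have := M.mul_mem (M.mul_mem (M.inv_mem hm) h0) hm
        simpa [mul_assoc] using this
    have hT1 : T.map (MulAut.conj (1 : G)).toMonoidHom = T := by ext x; simp
    -- `T` is transitive
    haveI : IsPretransitive T Ω := by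
      have hstep : ∀ n ∈ N, ∀ t ∈ T, ∃ t' ∈ T, n • t • α = t' • α := by
        intro n hn
        rw [← iSup_factor_eq hN hT] at hn
        induction hn using Subgroup.iSup_induction' with
        | hp g y hy =>
          intro t ht
          by_cases hV : T.map (MulAut.conj g).toMonoidHom = T
          · exact ⟨y * t, T.mul_mem (hV ▸ hy) ht, (mul_smul y t α).symm⟩
          · obtain ⟨x, hx, hxy⟩ := key g 1 (by rw [hT1]; exact hV) y hy
            rw [hT1] at hx
            refine ⟨t * x⁻¹, T.mul_mem ht (T.inv_mem hx), ?_⟩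
            have hfix : x • y • α = α := by rw [← mul_smul]; exact hxy.2
            rw [← mul_smul y t, (hT.commute (hT.conj hN g) (Ne.symm hV) ht hy).symm.eq, mul_smul t y,
              mul_smul t x⁻¹, eq_inv_smul_iff.2 hfix]
        | h1 => exact fun t ht => ⟨t, ht, one_smul G _⟩
        | hmul y z _ _ hy hz =>
          intro t ht
          obtain ⟨t₁, ht₁, e₁⟩ := hz t ht
          obtain ⟨t₂, ht₂, e₂⟩ := hy t₁ ht₁
          exact ⟨t₂, ht₂, by rw [mul_smul, e₁, e₂]⟩
      have hall' : ∀ ω : Ω, ∃ t ∈ T, ω = t • α := fun ω => by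
        obtain ⟨⟨n, hn⟩, rfl⟩ := exists_smul_eq N α ω
        obtain ⟨t, ht, e⟩ := hstep n hn 1 T.one_mem
        rw [one_smul] at e
        exact ⟨t, ht, e⟩
      refine ⟨fun a b => ?_⟩
      obtain ⟨s, hs, rfl⟩ := hall' a
      obtain ⟨t, ht, rfl⟩ := hall' b
      exact ⟨⟨t * s⁻¹, T.mul_mem ht (T.inv_mem hs)⟩, by
        show (t * s⁻¹) • s • α = t • α
        rw [← mul_smul, inv_mul_cancel_right]⟩
    have hTreg : ∀ t ∈ T, t • α = α → t = 1 := fun t ht h =>
      hsemi 1 t (hT1.symm ▸ ht) α h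
    refine diag_contra hne hep T hTnc hTreg M inf_le_right hMn (fun m hm => ?_) (fun c hc => ?_)
      fun h _ t ht => hconjT h t ht
    · obtain ⟨c, hc, z, -, hz, rfl⟩ := exists_mul_decomp hN hT hm.1
      refine ⟨c, hc, fun u hu => ?_⟩
      rw [mul_assoc c z u, (hz u hu).eq]; group
    · obtain ⟨y, hy, hyc⟩ := key 1 g₁ (by rw [hT1]; exact hg₁.symm) c (hT1.symm ▸ hc)
      refine ⟨y * c, hyc, fun u hu => ?_⟩
      have h8 : Commute y (c * u * c⁻¹) := (hT.commute (hT.conj hN g₁) hg₁.symm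
        (T.mul_mem (T.mul_mem hc hu) (T.inv_mem hc)) hy).symm
      calc y * c * u * (y * c)⁻¹ = y * (c * u * c⁻¹) * y⁻¹ := by group
        _ = _ := by rw [h8.eq, mul_inv_cancel_right]

end CfsgLib.ExtPrim
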